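import Groth.Agent.Adm62.Local
import Groth.Agent.E4O.GenOpen
import Groth.Agent.E4O.OpenAt
import Groth.Agent.E4O.GeomRedBC
import Groth.Agent.E4O.DvrCrit
import Groth.Agent.FlatMor68.FibreStalk
import Groth.Agent.FlatMor67.GenericFibre
import Groth.Agent.FBase64.PointCmp
import Groth.Agent.Sk62.RedPoint
import Groth.Prelude.Def_EGA43

/-!
Generizations, into the generic fibre, of a point where the fibre is generically geometrically reduced.
-/

set_option autoImplicit false
set_option linter.style.haveILetI false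

universe u

open CategoryTheory CategoryTheory.Limits AlgebraicGeometry IsLocalRing

namespace Groth.Agent.Adm62

variable {X Y : Scheme.{u}}

/-- A point above `z`, maximal in its fibre, over the closed point of a local base change. -/
theorem exists_maximal_over {P T : Scheme.{u}} {f : X ⟶ Y} {g : T ⟶ Y} {p : P ⟶ X} {q : P ⟶ T}
    (hsq : IsPullback p q f g) (c : T) (z : X) (hzc : f z = g c) (hmax : ∀ a, a ⤳ z → f a = f z → a = z) :
    ∃ z' : P, p z' = z ∧ q z' = c ∧ ∀ a, a ⤳ z' → q a = c → a = z' := by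
  obtain ⟨v, hpv, hqv⟩ := E4O.exists_of_isPullback hsq z c hzc
  obtain ⟨v', hv'⟩ := E4O.exists_fiberι_eq q (y := c) hqv
  obtain ⟨g₀, hg₀⟩ := QuasiSober.sober (isIrreducible_irreducibleComponent (x := v'))
    isClosed_irreducibleComponent
  have hgv : q.fiberι c g₀ ⤳ v := hv' ▸ (hg₀.specializes mem_irreducibleComponent).map (q.fiberι c).continuous
  have hqg : q (q.fiberι c g₀) = c := E4O.apply_fiberι q c g₀
  refine ⟨q.fiberι c g₀, ?_, hqg, fun a ha hqa => ?_⟩
  · refine hmax _ (hpv ▸ hgv.map p.continuous) ?_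
    rw [← Scheme.Hom.comp_apply, hsq.w, Scheme.Hom.comp_apply, hqg, hzc]
  · obtain ⟨a', rfl⟩ := E4O.exists_fiberι_eq q (y := c) hqa
    have h1 : a' ⤳ g₀ := (E4O.specializes_fiberι_iff q c _ _).1 ha
    have h2 : irreducibleComponent v' ⊆ closure {a'} :=
      hg₀.def ▸ specializes_iff_closure_subset.1 h1
    have h3 : a' ∈ closure {g₀} := by
      rw [hg₀.def]
      exact (irreducibleComponent_mem_irreducibleComponents v').2 isIrreducible_singleton.closure h2 (subset_closure rfl)
    rw [(h1.antisymm (specializes_iff_mem_closure.2 h3)).eq]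

/-- The local ring at such a point over a discrete valuation ring has principal maximal ideal. -/
theorem maximalIdeal_eq_span {V : Type u} [CommRing V] [IsDomain V] [IsDiscreteValuationRing V]
    {P : Scheme.{u}} (q : P ⟶ Spec (CommRingCat.of V)) (z' : P) (hq : q z' = closedPoint V)
    (hmax : ∀ a, a ⤳ z' → q a = closedPoint V → a = z')
    (hred : _root_.IsReduced (CM62.FibQuot q z')) :
    ∃ t : P.presheaf.stalk z', maximalIdeal (P.presheaf.stalk z') = Ideal.span {t} ∧
      ∀ r : PrimeSpectrum (P.presheaf.stalk z'),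
        q (P.fromSpecStalk z' r) ≠ closedPoint V → t ∉ r.asIdeal := by
  let W := (Spec (CommRingCat.of V)).presheaf.stalk (q z')
  let φ := (q.stalkMap z').hom
  obtain ⟨π, hπ⟩ := IsDiscreteValuationRing.exists_irreducible V
  let e : V →+* W := (Scheme.ΓSpecIso (CommRingCat.of V)).inv.hom |> fun i =>
    ((Spec (CommRingCat.of V)).presheaf.Γgerm (q z')).hom.comp i
  have hcl : ∀ r : PrimeSpectrum (P.presheaf.stalk z'), φ (e π) ∈ r.asIdeal →
      q (P.fromSpecStalk z' r) = closedPoint V := by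
    intro r hr
    rw [← Scheme.Hom.comp_apply, ← Scheme.SpecMap_stalkMap_fromSpecStalk, Scheme.Hom.comp_apply]
    apply PrimeSpectrum.ext
    refine ((maximalIdeal.isMaximal V).eq_of_le (Ideal.IsPrime.ne_top inferInstance) ?_).symm
    rw [hπ.maximalIdeal_eq, Ideal.span_le, Set.singleton_subset_iff, Spec.fromSpecStalk_eq]
    exact hr
  have hW : maximalIdeal W = Ideal.span {e π} := by
    letI : Algebra V W := StructureSheaf.stalkAlgebra V (q z')
    haveI : IsLocalization.AtPrime W (q z').asIdeal := StructureSheaf.IsLocalization.to_stalk V (q z')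
    rw [← IsLocalization.AtPrime.map_eq_maximalIdeal (q z').asIdeal W]
    rw [hq]
    show (maximalIdeal V).map _ = _
    rw [hπ.maximalIdeal_eq, Ideal.map_span, Set.image_singleton]
    rfl
  refine ⟨φ (e π), ?_, fun r hr h => hr (hcl r h)⟩
  have hrad : (Ideal.span {φ (e π)}).IsRadical := by
    have h := (Ideal.isRadical_iff_quotient_reduced _).2 hred
    rwa [hW, Ideal.map_span, Set.image_singleton] at h
  refine le_antisymm ?_ ?_
  · rw [← hrad.radical, Ideal.radical_eq_sInf]
    refine le_sInf fun r ⟨hle, hr⟩ => ?_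
    haveI := hr
    have h1 := hcl ⟨r, hr⟩ (hle (Ideal.mem_span_singleton_self _))
    have h2 : P.fromSpecStalk z' ⟨r, hr⟩ ⤳ z' := by
      have : P.fromSpecStalk z' ⟨r, hr⟩ ∈ Set.range (P.fromSpecStalk z') := ⟨_, rfl⟩
      rwa [Scheme.range_fromSpecStalk] at this
    have h3 : (⟨r, hr⟩ : PrimeSpectrum (P.presheaf.stalk z')) = closedPoint (P.presheaf.stalk z') :=
      (P.fromSpecStalk z').isEmbedding.injective ((hmax _ h2 h1).trans Scheme.fromSpecStalk_closedPoint.symm)
    exact (congrArg PrimeSpectrum.asIdeal h3).ge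
  · rw [Ideal.span_le, Set.singleton_subset_iff]
    have hm : e π ∈ maximalIdeal W := hW ▸ Ideal.mem_span_singleton_self _
    exact map_nonunit φ _ hm

/-- A generization in the generic fibre is unique, and maximal with reduced local ring. -/
theorem eq_bot_point {V : Type u} [CommRing V] [IsDomain V] [IsDiscreteValuationRing V]
    {P : Scheme.{u}} [IsLocallyNoetherian P] (q : P ⟶ Spec (CommRingCat.of V)) (z' : P)
    (hq : q z' = closedPoint V)
    (hmax : ∀ a, a ⤳ z' → q a = closedPoint V → a = z')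
    (hred : _root_.IsReduced (CM62.FibQuot q z')) (e : P) (he : e ⤳ z') (hqe : q e ≠ closedPoint V) :
    (∀ a, a ⤳ z' → q a ≠ closedPoint V → a = e) ∧ (∀ a, a ⤳ e → a = e) ∧
      _root_.IsReduced (P.presheaf.stalk e) := by
  obtain ⟨t, ht, hnot⟩ := maximalIdeal_eq_span q z' hq hmax hred
  have key : ∀ a, a ⤳ z' → q a ≠ closedPoint V →
      ∃ r : PrimeSpectrum (P.presheaf.stalk z'), P.fromSpecStalk z' r = a ∧ r.asIdeal = ⊥ := by
    intro a ha hqa
    obtain ⟨r, rfl⟩ : a ∈ Set.range (P.fromSpecStalk z') := by rw [Scheme.range_fromSpecStalk]; exact ha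
    exact ⟨r, rfl, eq_bot_of_notMem t ht r.asIdeal (hnot r hqa)⟩
  obtain ⟨r, rfl, hr⟩ := key e he hqe
  haveI : IsDomain (P.presheaf.stalk z') := by
    haveI : (⊥ : Ideal (P.presheaf.stalk z')).IsPrime := hr ▸ r.isPrime
    exact IsDomain.of_bot_isPrime _
  refine ⟨fun a ha hqa => ?_, fun a ha => ?_, ?_⟩
  · obtain ⟨s, rfl, hs⟩ := key a ha hqa
    rw [show s = r from PrimeSpectrum.ext (hs.trans hr.symm)]
  · obtain ⟨s, rfl⟩ : a ∈ Set.range (P.fromSpecStalk z') := by
      rw [Scheme.range_fromSpecStalk]; exact ha.trans he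
    have h1 : s ⤳ r := (P.fromSpecStalk z').isEmbedding.isInducing.specializes_iff.1 ha
    have h2 : s.asIdeal ≤ r.asIdeal := (PrimeSpectrum.le_iff_specializes s r).2 h1
    rw [show s = r from PrimeSpectrum.ext (le_antisymm h2 (hr ▸ bot_le))]
  · haveI := FlatMor67.flat_fromSpecStalk z'
    let i := RingEquiv.ofBijective ((P.fromSpecStalk z').stalkMap r).hom
      ⟨FBase64.stalkMap_injective_of_flat _ r, (P.fromSpecStalk z').stalkMap_surjective r⟩
    haveI : _root_.IsReduced ((Spec (P.presheaf.stalk z')).presheaf.stalk r) := inferInstance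
    exact isReduced_of_injective i i.injective

/-- Base change along a discrete valuation ring realising `η ⤳ y`. -/
theorem exists_point [IsLocallyNoetherian Y] (f : X ⟶ Y) [LocallyOfFiniteType f] {η : Y} (z : X)
    (hη : η ⤳ f z) (hne : η ≠ f z)
    (hred : FBase.IsGeomReducedAt (f.fiberToSpecResidueField (f z)) (f.asFiber z))
    (hmax : ∀ a, a ⤳ z → f a = f z → a = z) {X₁ X₂ : Scheme.{u}} (i₁ : X₁ ⟶ X) (i₂ : X₂ ⟶ X)
    [LocallyOfFiniteType i₁] [LocallyOfFiniteType i₂] (w₁ : X₁) (w₂ : X₂) (h₁ : i₁ w₁ = z) (h₂ : i₂ w₂ = z)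
    (ho₁ : EGA43.IsUnivOpenAt (i₁ ≫ f) w₁) (ho₂ : EGA43.IsUnivOpenAt (i₂ ≫ f) w₂)
    (L : Type u) [Field L] [Algebra (Y.residueField η) L]
    (hfg : (⊤ : IntermediateField (Y.residueField η) L).FG) :
    ∃ ξ : ↥(FBase.bc (k := Y.residueField η) (f.fiberToSpecResidueField η) L),
      _root_.IsReduced ((FBase.bc (k := Y.residueField η) (f.fiberToSpecResidueField η) L).presheaf.stalk ξ) ∧
      (∀ a, a ⤳ ξ → a = ξ) ∧
      f.fiberι η (FBase.bcπ (k := Y.residueField η) (f.fiberToSpecResidueField η) L ξ) ∈ Set.range i₁ ∧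
      f.fiberι η (FBase.bcπ (k := Y.residueField η) (f.fiberToSpecResidueField η) L ξ) ∈ Set.range i₂ := by
  obtain ⟨V, hV, g, hgc, hgη, hgL⟩ := E4O.exists_dvr_hom hη hne L hfg
  haveI := hV
  let P := pullback f g
  let p : P ⟶ X := pullback.fst f g
  let q : P ⟶ Spec (CommRingCat.of V) := pullback.snd f g
  have hsq : IsPullback p q f g := IsPullback.of_hasPullback f g
  haveI : LocallyOfFiniteType q := MorphismProperty.of_isPullback hsq inferInstance
  haveI : IsLocallyNoetherian P := LocallyOfFiniteType.isLocallyNoetherian q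
  obtain ⟨z', hpz, hqz, hmax'⟩ := exists_maximal_over hsq (closedPoint V) z hgc.symm hmax
  have hredq : _root_.IsReduced (CM62.FibQuot q z') := by
    have h := (E4O.isGeomReducedAt_fibre_iff_of_isPullback hsq z').2 (by rw [hpz]; exact hred)
    haveI := Sk62.isReduced_stalk_of_isGeomReducedAt _ _ h
    let e := FlatMor68.FibreStalk.fibreStalkEquivAt q z'
    exact isReduced_of_injective e e.injective
  have hgen : genericPoint (Spec (CommRingCat.of V)) ≠ closedPoint V := by
    intro h
    exact hne (by rw [← hgη, h]; exact hgc)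
  have hex : ∀ (Xi : Scheme.{u}) (i : Xi ⟶ X) [LocallyOfFiniteType i] (w : Xi), i w = z →
      EGA43.IsUnivOpenAt (i ≫ f) w →
      ∃ e, e ⤳ z' ∧ q e = genericPoint (Spec (CommRingCat.of V)) ∧ p e ∈ Set.range i := by
    intro Xi i _ w hw ho
    have hsq₁ : IsPullback (pullback.fst i p) (pullback.snd i p ≫ q) (i ≫ f) g :=
      (IsPullback.of_hasPullback i p).paste_vert hsq
    haveI : LocallyOfFiniteType (pullback.snd i p ≫ q) := inferInstance
    haveI : LocallyOfFinitePresentation (pullback.snd i p ≫ q) :=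
      E4O.locallyOfFinitePresentation_of_isLocallyNoetherian _
    obtain ⟨w', hw1, hw2⟩ := E4O.exists_of_isPullback (IsPullback.of_hasPullback i p) w z' (hw.trans hpz.symm)
    have hopen := E4O.isOpenAt_of_isPullback ho hsq₁ w' hw1
    obtain ⟨e, hqe, he⟩ := E4O.isOpenAt_iff_forall_exists_specializes.1 hopen
      (genericPoint (Spec (CommRingCat.of V))) (genericPoint_specializes _)
    refine ⟨pullback.snd i p e, hw2 ▸ he.map (pullback.snd i p).continuous, hqe, pullback.fst i p e, ?_⟩
    rw [← Scheme.Hom.comp_apply, pullback.condition, Scheme.Hom.comp_apply]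
  obtain ⟨e₁, he₁, hqe₁, hpe₁⟩ := hex X₁ i₁ w₁ h₁ ho₁
  obtain ⟨e₂, he₂, hqe₂, hpe₂⟩ := hex X₂ i₂ w₂ h₂ ho₂
  obtain ⟨huniq, hgenz, hredE⟩ := eq_bot_point q z' hqz hmax' hredq e₁ he₁ (hqe₁ ▸ hgen)
  obtain rfl : e₂ = e₁ := huniq e₂ he₂ (hqe₂ ▸ hgen)
  -- the generic fibre of the base change
  let k := Y.residueField η
  let u : Spec (CommRingCat.of L) ⟶ Spec (CommRingCat.of V) := Spec.map (CommRingCat.ofHom (algebraMap V L))
  haveI : IsPreimmersion u := IsPreimmersion.of_isLocalization (nonZeroDivisors V)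
  haveI : Flat u := by
    rw [HasRingHomProperty.Spec_iff (P := @Flat)]
    exact RingHom.flat_algebraMap_iff.2 (IsLocalization.flat L (nonZeroDivisors V))
  let F := FBase.bc (k := k) (f.fiberToSpecResidueField η) L
  let π : F ⟶ f.fiber η := FBase.bcπ (k := k) (f.fiberToSpecResidueField η) L
  let s : F ⟶ Spec (CommRingCat.of L) := FBase.bcStr (k := k) (f.fiberToSpecResidueField η) L
  have hF : IsPullback (π ≫ f.fiberι η) s f (u ≫ g) := by
    rw [hgL]
    exact (IsPullback.of_hasPullback (f.fiberToSpecResidueField η)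
      (Spec.map (CommRingCat.ofHom (algebraMap k L)))).flip.paste_vert
      (IsPullback.of_hasPullback f (Y.fromSpecResidueField η)).flip |>.flip
  let ι : F ⟶ P := pullback.lift (π ≫ f.fiberι η) (s ≫ u) (by rw [hF.w, Category.assoc])
  have hι₁ : ι ≫ p = π ≫ f.fiberι η := pullback.lift_fst _ _ _
  have hι₂ : ι ≫ q = s ≫ u := pullback.lift_snd _ _ _
  have hι : IsPullback ι s q u := IsPullback.of_right (hι₁.symm ▸ hF) hι₂ hsq
  haveI : IsPreimmersion ι := MorphismProperty.of_isPullback (P := @IsPreimmersion) hι.flip inferInstance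
  haveI : Flat ι := MorphismProperty.of_isPullback (P := @Flat) hι.flip inferInstance
  have hu : u (closedPoint L) = genericPoint (Spec (CommRingCat.of V)) := by
    refine Eq.trans (PrimeSpectrum.ext ?_) (genericPoint_eq_bot_of_affine (CommRingCat.of V)).symm
    show (maximalIdeal L).comap (algebraMap V L) = ⊥
    rw [maximalIdeal_eq_bot]
    exact Ideal.comap_bot_of_injective _ (IsFractionRing.injective V L)
  obtain ⟨ξ, hξ, -⟩ := E4O.exists_of_isPullback hι e₂ (closedPoint L) (hqe₁.trans hu.symm)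
  refine ⟨ξ, ?_, fun a ha => ?_, ?_⟩
  · subst hξ
    let i := RingEquiv.ofBijective (ι.stalkMap ξ).hom
      ⟨FBase64.stalkMap_injective_of_flat ι ξ, ι.stalkMap_surjective ξ⟩
    haveI := hredE
    exact isReduced_of_injective i.symm i.symm.injective
  · exact ι.isEmbedding.injective ((hgenz (ι a) (hξ ▸ ha.map ι.continuous)).trans hξ.symm)
  · have h : f.fiberι η (π ξ) = p e₂ := by
      rw [← Scheme.Hom.comp_apply, ← hι₁, Scheme.Hom.comp_apply, hξ]
    exact ⟨h ▸ hpe₁, h ▸ hpe₂⟩

end Groth.Agent.Adm62
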