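import Groth.Agent.E4O.FibreDim

/-! A closed subscheme of full fibre dimension contains the generic point of the fibre component. -/

set_option autoImplicit false
set_option linter.style.haveILetI false

universe u

open CategoryTheory AlgebraicGeometry TopologicalSpace

namespace Groth.Agent.Adm62

variable {X Y : Scheme.{u}}

/-- If `z` is the only maximal generization of `x` in its fibre and the closed set `S` has the same local
dimension at `x` in the fibre, then `z ∈ S`. -/
theorem mem_of_localDim_eq (f : X ⟶ Y) [LocallyOfFiniteType f] {x z : X}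
    (hz : ∀ a, a ⤳ x → f a = f x → z ⤳ a) (hzx : z ⤳ x) (hfz : f z = f x) (S : Closeds X) (hx : x ∈ S)
    (hdim : FlatMor.localDim ↥((S : Set X) ∩ f ⁻¹' {f x}) ⟨x, ⟨hx, Set.mem_singleton (f x)⟩⟩ =
      FlatMor.fibreDimAt f x) : z ∈ S := by
  let J := Scheme.IdealSheafData.vanishingIdeal S
  let j := J.subschemeι
  have hrange : Set.range j = (S : Set X) :=
    (Scheme.IdealSheafData.range_subschemeι _).trans (Scheme.IdealSheafData.coe_support_vanishingIdeal _)
  obtain ⟨x₀, hx₀⟩ : x ∈ Set.range j := hrange.ge hx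
  let h := j ≫ f
  have hh : ∀ a, h a = f (j a) := fun a => Scheme.Hom.comp_apply _ _ _
  obtain ⟨t, ht, hht, hdimt, -, -⟩ := E4O.exists_fibreDimAt_eq h x₀
  have hdeg : E4O.fdeg h t = E4O.fdeg f (j t) := by
    have h1 := E4O.dim_fibreClosure (f := h) t
    have h2 := E4O.dim_fibreClosure (f := f) (j t)
    have h3 : closure {t} ∩ h ⁻¹' {h t} = j ⁻¹' (closure {j t} ∩ f ⁻¹' {f (j t)}) := by
      rw [Set.preimage_inter, ← Set.image_singleton, j.isEmbedding.closure_eq_preimage_closure_image]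
      simp only [Set.image_singleton]
      rfl
    rw [h3, E4O.dim_preimage_of_isEmbedding j.isEmbedding] at h1
    have hsub : closure {j t} ⊆ Set.range j :=
      closure_minimal (Set.singleton_subset_iff.2 ⟨t, rfl⟩) j.isClosedEmbedding.isClosed_range
    rw [E4O.dim_set_congr (show (closure {j t} ∩ f ⁻¹' {f (j t)}) ∩ Set.range j = closure {j t} ∩ f ⁻¹' {f (j t)} from
      Set.inter_eq_left.2 fun a ha => hsub ha.1), h2] at h1
    exact_mod_cast h1.symm
  have hloc : FlatMor.fibreDimAt h x₀ = FlatMor.fibreDimAt f x := by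
    rw [E4O.fibreDimAt_eq_localDim, ← hdim]
    subst hx₀
    let T : Set X := (S : Set X) ∩ f ⁻¹' {f (j x₀)}
    let φ : ↥(h ⁻¹' {h x₀}) → T := fun a => ⟨j a.1, hrange.le ⟨a.1, rfl⟩, a.2⟩
    have hind : Topology.IsEmbedding φ :=
      (j.isEmbedding.comp Topology.IsEmbedding.subtypeVal).codRestrict T _
    have hsurj : Function.Surjective φ := by
      rintro ⟨b, hbS, hbf⟩
      obtain ⟨a, rfl⟩ := hrange.ge hbS
      exact ⟨⟨a, hbf⟩, rfl⟩
    exact E4O.localDim_eq_of_homeomorph (hind.toHomeomorphOfSurjective hsurj) _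
  have hjt : j t ⤳ x := hx₀ ▸ ht.map j.continuous
  have hfjt : f (j t) = f x := by rw [← hh, hht, hh, hx₀]
  obtain ⟨z₀, hz₀, hfz₀, hdimz, -, hz₀max⟩ := E4O.exists_fibreDimAt_eq f x
  obtain rfl : z = z₀ := hz₀max z (hz z₀ hz₀ hfz₀) hfz
  by_contra hzS
  have hlt : E4O.fdeg f (j t) < E4O.fdeg f z :=
    E4O.fdeg_lt (hz _ hjt hfjt) (hfz.trans hfjt.symm) fun e => hzS (e ▸ hrange.le ⟨t, rfl⟩)
  have heq := hdimt.symm.trans (hloc.trans hdimz)
  rw [hdeg] at heq
  have : E4O.fdeg f (j t) = E4O.fdeg f z := by exact_mod_cast heq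
  omega

end Groth.Agent.Adm62
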