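import Mathlib.RingTheory.Filtration
import Mathlib.RingTheory.Jacobson.Ideal
import Mathlib.RingTheory.LocalRing.MaximalIdeal.Basic

/-! Noetherian local rings with a principal maximal ideal. -/

set_option autoImplicit false

universe u

open IsLocalRing

namespace Groth.Agent.Adm62

/-- In a Noetherian local ring whose maximal ideal is `(t)` the only prime avoiding `t` is `0`. -/
theorem eq_bot_of_notMem {A : Type u} [CommRing A] [IsLocalRing A] [IsNoetherianRing A] (t : A)
    (hmax : maximalIdeal A = Ideal.span {t}) (r : Ideal A) [hr : r.IsPrime] (ht : t ∉ r) : r = ⊥ := by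
  refine eq_bot_iff.2 fun a ha => ?_
  have key : ∀ n : ℕ, ∀ b ∈ r, b ∈ maximalIdeal A ^ n := by
    intro n
    induction n with
    | zero => simp
    | succ n ih =>
      intro b hb
      have hbm : b ∈ maximalIdeal A := le_maximalIdeal hr.ne_top hb
      rw [hmax, Ideal.mem_span_singleton] at hbm
      obtain ⟨c, rfl⟩ := hbm
      rw [pow_succ']
      exact Ideal.mul_mem_mul (hmax ▸ Ideal.mem_span_singleton_self t)
        (ih c ((hr.mem_or_mem hb).resolve_left ht))
  have h : a ∈ ⨅ n : ℕ, maximalIdeal A ^ n := Ideal.mem_iInf.2 fun n => key n a ha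
  rw [Ideal.iInf_pow_eq_bot_of_isLocalRing _ (maximalIdeal.isMaximal A).ne_top] at h
  exact h

end Groth.Agent.Adm62
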